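import Cfsg.Agent.H52.JThree.Tc.ShiftOne.F0
import Cfsg.Agent.H52.JThree.Tc.ShiftOne.P0
import Cfsg.Agent.H52.JThree.Tc.Sound

/-!
The checked log (ShiftOne).
-/

set_option autoImplicit false
set_option maxRecDepth 100000

namespace Cfsg.Agent.H52.JThree.Tc.ShiftOne

def factRuns : List (List ℕ × ℕ) :=
  [(justF0v0, 0), (justF0v1, 250)]

def pointRuns : List (List ℕ × ℕ) :=
  [(justP0v0, 0)]

theorem factRuns_ok : ∀ p ∈ factRuns, okFrom log p.1 p.2 = true := by
  unfold factRuns
  exact allF0

theorem pointRuns_ok : ∀ p ∈ pointRuns, okPts log p.1 p.2 = true := by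
  unfold pointRuns
  exact allP0

theorem factRuns_covers : covers log.numFacts (factRuns.map fun p => (p.1.length, p.2)) 0 = true := by
  decide +kernel

theorem pointRuns_covers : covers log.numPts (pointRuns.map fun p => (p.1.length, p.2)) 0 = true := by
  decide +kernel

/-- The checked log. -/
def checked : Checked log where
  fs := factRuns
  fs_ok := factRuns_ok
  fs_cover i hi := covers_spec _ _ _ factRuns_covers i (Nat.zero_le i) hi
  ps := pointRuns
  ps_ok := pointRuns_ok
  ps_cover i hi := covers_spec _ _ _ pointRuns_covers i (Nat.zero_le i) hi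
  zero_live := by decide +kernel
  pos := by decide +kernel

theorem live_count : (Model.liveList log).length = 1 := by decide +kernel

end Cfsg.Agent.H52.JThree.Tc.ShiftOne
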